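import Cfsg.Agent.H407.L16.Calc

/-!
# S5916, claim G (β): seven bracket words (helper407)

`beta` : a Lie subalgebra stable under `Fp` and `t₀` which contains `vN K1 K2 A A2 B` with `(A, A2, B) ≠ 0` contains the
eight root vectors of one of the orbits of `157`, `148`, `128`.
-/

set_option autoImplicit false
set_option maxRecDepth 100000

namespace Cfsg.Agent.H407.L16

open Cfsg Cfsg.Lie
open Cfsg.Agent.H939.L64 (KK LK brK)
open Cfsg.Agent.H413.L16 (er hv hr tg)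
open Cfsg.Agent.H939.L16
open Cfsg.Agent.H955.L16

/-- closed under the bracket, the Frobenius map and `t₀` -/
structure Clo (Fp : LK → LK) (ta : LK →ₗ[KK] LK) (g : Submodule KK LK) : Prop where
  br : ∀ u ∈ g, ∀ v ∈ g, brK u v ∈ g
  F : ∀ v ∈ g, Fp v ∈ g
  T : ∀ v ∈ g, T ta v ∈ g

variable {Fp : LK → LK} {ta : LK →ₗ[KK] LK} {g : Submodule KK LK}

def waU : LV := [(2, (0, 0, 0, 1)), (2, (0, 0, 1, 0)), (154, (0, 0, 1, 0)), (157, (1, 0, 0, 0)), (167, (0, 0, 0, 1)), (172, (0, 1, 0, 0))]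
def waF1 : LV := [(10, (0, 0, 0, 2)), (10, (0, 0, 2, 0)), (180, (0, 0, 0, 2)), (190, (0, 2, 0, 0)), (200, (0, 0, 2, 0)), (210, (2, 0, 0, 0))]
def waT1 : LV := [(32, (0, 0, 2, 0)), (42, (0, 0, 2, 0)), (42, (2, 0, 0, 0)), (52, (0, 0, 0, 2)), (62, (0, 0, 0, 2)), (62, (0, 2, 0, 0)), (230, (0, 0, 0, 2)), (230, (0, 0, 2, 0))]
def waB1 : LV := [(31, (0, 0, 0, 3)), (31, (0, 0, 3, 0)), (41, (0, 1, 0, 2)), (41, (0, 1, 2, 0)), (41, (2, 0, 0, 1)), (41, (2, 0, 1, 0)), (216, (0, 0, 1, 2)), (221, (0, 2, 1, 0))]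
def waB2 : LV := [(157, (0, 0, 1, 4))]

theorem wa_mem (O : Ops Fp ta) (S : Clo Fp ta g) (ν : Fin 4 → KK) (h : ev ν waU ∈ g) : ev ν waB2 ∈ g := by
  have hF1 : ev ν waF1 ∈ g := F_eq O ν (u := waU) (v := waF1) (by decide +kernel) (by decide +kernel) ▸ S.F _ h
  have hT1 : ev ν waT1 ∈ g := T_eq O ν (u := waF1) (v := waT1) (by decide +kernel) (by decide +kernel) ▸ S.T _ hF1
  have hB1 : ev ν waB1 ∈ g := br_eq ν (u := waF1) (v := waU) (w := waB1) (by decide +kernel) (by decide +kernel) ▸ S.br _ hF1 _ h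
  have hB2 : ev ν waB2 ∈ g := br_eq ν (u := waT1) (v := waB1) (w := waB2) (by decide +kernel) (by decide +kernel) ▸ S.br _ hT1 _ hB1
  exact hB2

def wbU : LV := [(2, (0, 0, 1, 0)), (154, (0, 0, 1, 0)), (157, (1, 0, 0, 0))]
def wbF1 : LV := [(10, (0, 0, 2, 0)), (200, (0, 0, 2, 0)), (210, (2, 0, 0, 0))]
def wbF2 : LV := [(71, (0, 0, 4, 0)), (233, (0, 0, 4, 0)), (234, (4, 0, 0, 0))]
def wbT1 : LV := [(7, (0, 0, 4, 0)), (8, (0, 0, 4, 0)), (8, (4, 0, 0, 0)), (173, (0, 0, 4, 0))]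
def wbB1 : LV := [(31, (0, 0, 3, 0)), (41, (2, 0, 1, 0))]
def wbB2 : LV := [(86, (0, 0, 7, 0))]

theorem wb_mem (O : Ops Fp ta) (S : Clo Fp ta g) (ν : Fin 4 → KK) (h : ev ν wbU ∈ g) : ev ν wbB2 ∈ g := by
  have hF1 : ev ν wbF1 ∈ g := F_eq O ν (u := wbU) (v := wbF1) (by decide +kernel) (by decide +kernel) ▸ S.F _ h
  have hF2 : ev ν wbF2 ∈ g := F_eq O ν (u := wbF1) (v := wbF2) (by decide +kernel) (by decide +kernel) ▸ S.F _ hF1
  have hT1 : ev ν wbT1 ∈ g := T_eq O ν (u := wbF2) (v := wbT1) (by decide +kernel) (by decide +kernel) ▸ S.T _ hF2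
  have hB1 : ev ν wbB1 ∈ g := br_eq ν (u := wbF1) (v := wbU) (w := wbB1) (by decide +kernel) (by decide +kernel) ▸ S.br _ hF1 _ h
  have hB2 : ev ν wbB2 ∈ g := br_eq ν (u := wbT1) (v := wbB1) (w := wbB2) (by decide +kernel) (by decide +kernel) ▸ S.br _ hT1 _ hB1
  exact hB2

def wcU : LV := [(2, (0, 0, 1, 0)), (154, (0, 0, 1, 0)), (157, (1, 0, 0, 0)), (172, (0, 1, 0, 0))]
def wcF1 : LV := [(10, (0, 0, 2, 0)), (190, (0, 2, 0, 0)), (200, (0, 0, 2, 0)), (210, (2, 0, 0, 0))]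
def wcF2 : LV := [(45, (0, 4, 0, 0)), (71, (0, 0, 4, 0)), (233, (0, 0, 4, 0)), (234, (4, 0, 0, 0))]
def wcT1 : LV := [(32, (0, 0, 2, 0)), (42, (0, 0, 2, 0)), (42, (2, 0, 0, 0)), (62, (0, 2, 0, 0)), (230, (0, 0, 2, 0))]
def wcB1 : LV := [(101, (0, 0, 5, 0)), (107, (4, 0, 1, 0))]
def wcB2 : LV := [(41, (0, 2, 5, 0))]

theorem wc_mem (O : Ops Fp ta) (S : Clo Fp ta g) (ν : Fin 4 → KK) (h : ev ν wcU ∈ g) : ev ν wcB2 ∈ g := by
  have hF1 : ev ν wcF1 ∈ g := F_eq O ν (u := wcU) (v := wcF1) (by decide +kernel) (by decide +kernel) ▸ S.F _ h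
  have hF2 : ev ν wcF2 ∈ g := F_eq O ν (u := wcF1) (v := wcF2) (by decide +kernel) (by decide +kernel) ▸ S.F _ hF1
  have hT1 : ev ν wcT1 ∈ g := T_eq O ν (u := wcF1) (v := wcT1) (by decide +kernel) (by decide +kernel) ▸ S.T _ hF1
  have hB1 : ev ν wcB1 ∈ g := br_eq ν (u := wcF2) (v := wcU) (w := wcB1) (by decide +kernel) (by decide +kernel) ▸ S.br _ hF2 _ h
  have hB2 : ev ν wcB2 ∈ g := br_eq ν (u := wcT1) (v := wcB1) (w := wcB2) (by decide +kernel) (by decide +kernel) ▸ S.br _ hT1 _ hB1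
  exact hB2

def wdU : LV := [(2, (0, 0, 0, 1)), (157, (1, 0, 0, 0)), (167, (0, 0, 0, 1)), (172, (0, 1, 0, 0))]
def wdF1 : LV := [(10, (0, 0, 0, 2)), (180, (0, 0, 0, 2)), (190, (0, 2, 0, 0)), (210, (2, 0, 0, 0))]
def wdF2 : LV := [(44, (0, 0, 0, 4)), (45, (0, 4, 0, 0)), (71, (0, 0, 0, 4)), (234, (4, 0, 0, 0))]
def wdT1 : LV := [(68, (0, 0, 0, 1)), (73, (0, 0, 0, 1)), (73, (0, 1, 0, 0)), (86, (1, 0, 0, 0)), (238, (0, 0, 0, 1))]
def wdB0 : LV := [(31, (0, 0, 0, 3)), (41, (0, 1, 0, 2)), (41, (2, 0, 0, 1))]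
def wdB1 : LV := [(4, (0, 0, 0, 7)), (189, (4, 0, 0, 3))]
def wdB2 : LV := [(128, (0, 0, 0, 8))]

theorem wd_mem (O : Ops Fp ta) (S : Clo Fp ta g) (ν : Fin 4 → KK) (h : ev ν wdU ∈ g) : ev ν wdB2 ∈ g := by
  have hF1 : ev ν wdF1 ∈ g := F_eq O ν (u := wdU) (v := wdF1) (by decide +kernel) (by decide +kernel) ▸ S.F _ h
  have hF2 : ev ν wdF2 ∈ g := F_eq O ν (u := wdF1) (v := wdF2) (by decide +kernel) (by decide +kernel) ▸ S.F _ hF1
  have hT1 : ev ν wdT1 ∈ g := T_eq O ν (u := wdU) (v := wdT1) (by decide +kernel) (by decide +kernel) ▸ S.T _ h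
  have hB0 : ev ν wdB0 ∈ g := br_eq ν (u := wdF1) (v := wdU) (w := wdB0) (by decide +kernel) (by decide +kernel) ▸ S.br _ hF1 _ h
  have hB1 : ev ν wdB1 ∈ g := br_eq ν (u := wdF2) (v := wdB0) (w := wdB1) (by decide +kernel) (by decide +kernel) ▸ S.br _ hF2 _ hB0
  have hB2 : ev ν wdB2 ∈ g := br_eq ν (u := wdT1) (v := wdB1) (w := wdB2) (by decide +kernel) (by decide +kernel) ▸ S.br _ hT1 _ hB1
  exact hB2

def weU : LV := [(129, (0, 0, 1, 0)), (156, (0, 0, 1, 0)), (157, (1, 0, 0, 0)), (172, (0, 1, 0, 0))]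
def weF1 : LV := [(15, (0, 0, 2, 0)), (190, (0, 2, 0, 0)), (207, (0, 0, 2, 0)), (210, (2, 0, 0, 0))]
def weT1 : LV := [(73, (0, 1, 0, 0)), (85, (0, 0, 1, 0)), (86, (0, 0, 1, 0)), (86, (1, 0, 0, 0)), (114, (0, 0, 1, 0))]
def weB1 : LV := [(40, (0, 0, 3, 0)), (41, (1, 0, 2, 0)), (213, (0, 0, 3, 0))]
def weB2 : LV := [(210, (0, 0, 4, 0))]

theorem we_mem (O : Ops Fp ta) (S : Clo Fp ta g) (ν : Fin 4 → KK) (h : ev ν weU ∈ g) : ev ν weB2 ∈ g := by
  have hF1 : ev ν weF1 ∈ g := F_eq O ν (u := weU) (v := weF1) (by decide +kernel) (by decide +kernel) ▸ S.F _ h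
  have hT1 : ev ν weT1 ∈ g := T_eq O ν (u := weU) (v := weT1) (by decide +kernel) (by decide +kernel) ▸ S.T _ h
  have hB1 : ev ν weB1 ∈ g := br_eq ν (u := weF1) (v := weU) (w := weB1) (by decide +kernel) (by decide +kernel) ▸ S.br _ hF1 _ h
  have hB2 : ev ν weB2 ∈ g := br_eq ν (u := weT1) (v := weB1) (w := weB2) (by decide +kernel) (by decide +kernel) ▸ S.br _ hT1 _ hB1
  exact hB2

def wfU : LV := [(2, (0, 0, 0, 1)), (129, (0, 0, 1, 0)), (156, (0, 0, 1, 0)), (157, (1, 0, 0, 0)), (167, (0, 0, 0, 1)), (172, (0, 1, 0, 0))]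
def wfF1 : LV := [(10, (0, 0, 0, 2)), (15, (0, 0, 2, 0)), (180, (0, 0, 0, 2)), (190, (0, 2, 0, 0)), (207, (0, 0, 2, 0)), (210, (2, 0, 0, 0))]
def wfT1 : LV := [(39, (0, 0, 2, 0)), (42, (0, 0, 2, 0)), (42, (2, 0, 0, 0)), (52, (0, 0, 0, 2)), (62, (0, 0, 0, 2)), (62, (0, 2, 0, 0)), (225, (0, 0, 2, 0)), (230, (0, 0, 0, 2))]
def wfB0 : LV := [(31, (0, 0, 0, 3)), (38, (0, 0, 2, 1)), (40, (0, 0, 3, 0)), (41, (0, 1, 0, 2)), (41, (1, 0, 2, 0)), (41, (2, 0, 0, 1)), (213, (0, 0, 3, 0))]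
def wfB1 : LV := [(2, (0, 0, 2, 3)), (157, (0, 0, 2, 3)), (172, (0, 0, 2, 3))]
def wfB2 : LV := [(86, (0, 0, 2, 5))]

theorem wf_mem (O : Ops Fp ta) (S : Clo Fp ta g) (ν : Fin 4 → KK) (h : ev ν wfU ∈ g) : ev ν wfB2 ∈ g := by
  have hF1 : ev ν wfF1 ∈ g := F_eq O ν (u := wfU) (v := wfF1) (by decide +kernel) (by decide +kernel) ▸ S.F _ h
  have hT1 : ev ν wfT1 ∈ g := T_eq O ν (u := wfF1) (v := wfT1) (by decide +kernel) (by decide +kernel) ▸ S.T _ hF1
  have hB0 : ev ν wfB0 ∈ g := br_eq ν (u := wfF1) (v := wfU) (w := wfB0) (by decide +kernel) (by decide +kernel) ▸ S.br _ hF1 _ h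
  have hB1 : ev ν wfB1 ∈ g := br_eq ν (u := wfT1) (v := wfB0) (w := wfB1) (by decide +kernel) (by decide +kernel) ▸ S.br _ hT1 _ hB0
  have hB2 : ev ν wfB2 ∈ g := br_eq ν (u := wfT1) (v := wfB1) (w := wfB2) (by decide +kernel) (by decide +kernel) ▸ S.br _ hT1 _ hB1
  exact hB2

/-- the eight root vectors of an orbit -/
def Orb (g : Submodule KK LK) (r : ℕ) : Prop := ∀ j, er (wi^[j] r) ∈ g

theorem wi_lt {r : ℕ} (h : r < 240) : wi r < 240 := by
  have h1 : ((List.range 240).all fun r => decide (wi r < 240)) = true := by decide +kernel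
  exact of_decide_eq_true (List.all_eq_true.1 h1 r (List.mem_range.2 h))

theorem wi_iter_lt {r : ℕ} (h : r < 240) (j : ℕ) : wi^[j] r < 240 := by
  induction j with
  | zero => exact h
  | succ j ih => rw [Function.iterate_succ_apply']; exact wi_lt ih

theorem orb_of (O : Ops Fp ta) (S : Clo Fp ta g) {r : ℕ} (h0 : r < 240) (h : er r ∈ g) : Orb g r := by
  intro j
  induction j with
  | zero => exact h
  | succ j ih =>
    rw [Function.iterate_succ_apply', ← O.er _ (wi_iter_lt h0 j)]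
    exact S.F _ ih

theorem orb_back {r : ℕ} {k : ℕ} {s : ℕ} (hk : wi^[k] r = s) (h : Orb g r) : Orb g s := by
  intro j
  rw [← hk, ← Function.iterate_add_apply]
  exact h _

theorem smul_mem_cancel {c : KK} (hc : c ≠ 0) {v : LK} (h : c • v ∈ g) : v ∈ g := by
  have := g.smul_mem c⁻¹ h
  rwa [smul_smul, inv_mul_cancel₀ hc, one_smul] at this

/-- **claim G (β)** -/
theorem beta (O : Ops Fp ta) (S : Clo Fp ta g) {K1 K2 A A2 B : KK} (hA : A * A2 = 0) (hn : ¬ (A = 0 ∧ A2 = 0 ∧ B = 0))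
    (h : vN K1 K2 A A2 B ∈ g) : Orb g 157 ∨ Orb g 148 ∨ Orb g 128 := by
  rcases mul_eq_zero.1 hA with hA | hA
  · subst hA
    by_cases hB : B = 0
    · subst hB
      have hA2 : A2 ≠ 0 := fun h => hn ⟨rfl, h, rfl⟩
      left
      have h1 := we_mem O S ![K1, K2, A2, 0] (by
        have e : ev ![K1, K2, A2, 0] weU = vN K1 K2 0 A2 0 := by
          simp [ev, weU, mon, vN]
          abel
        rw [e]; exact h)
      simp [ev, weB2, mon] at h1
      have h2 := smul_mem_cancel (pow_ne_zero 4 hA2) h1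
      exact orb_back (r := 210) (k := 7) (by decide +kernel) (orb_of O S (by norm_num) h2)
    · by_cases hA2 : A2 = 0
      · subst hA2
        right; right
        have h1 := wd_mem O S ![K1, K2, 0, B] (by
          have e : ev ![K1, K2, 0, B] wdU = vN K1 K2 0 0 B := by
            simp [ev, wdU, mon, vN]
            abel
          rw [e]; exact h)
        simp [ev, wdB2, mon] at h1
        exact orb_of O S (by norm_num) (smul_mem_cancel (pow_ne_zero 8 hB) h1)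
      · left
        have h1 := wf_mem O S ![K1, K2, A2, B] (by
          have e : ev ![K1, K2, A2, B] wfU = vN K1 K2 0 A2 B := by
            simp [ev, wfU, mon, vN]
            abel
          rw [e]; exact h)
        simp [ev, wfB2, mon] at h1
        have h2 := smul_mem_cancel (mul_ne_zero (pow_ne_zero 2 hA2) (pow_ne_zero 5 hB)) h1
        exact orb_back (r := 86) (k := 4) (by decide +kernel) (orb_of O S (by norm_num) h2)
  · subst hA
    by_cases hA1 : A = 0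
    · subst hA1
      have hB : B ≠ 0 := fun h => hn ⟨rfl, rfl, h⟩
      right; right
      have h1 := wd_mem O S ![K1, K2, 0, B] (by
        have e : ev ![K1, K2, 0, B] wdU = vN K1 K2 0 0 B := by
          simp [ev, wdU, mon, vN]
          abel
        rw [e]; exact h)
      simp [ev, wdB2, mon] at h1
      exact orb_of O S (by norm_num) (smul_mem_cancel (pow_ne_zero 8 hB) h1)
    · by_cases hB : B = 0
      · subst hB
        by_cases hK2 : K2 = 0
        · subst hK2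
          left
          have h1 := wb_mem O S ![K1, 0, A, 0] (by
            have e : ev ![K1, 0, A, 0] wbU = vN K1 0 A 0 0 := by
              simp [ev, wbU, mon, vN]
              abel
            rw [e]; exact h)
          simp [ev, wbB2, mon] at h1
          have h2 := smul_mem_cancel (pow_ne_zero 7 hA1) h1
          exact orb_back (r := 86) (k := 4) (by decide +kernel) (orb_of O S (by norm_num) h2)
        · right; left
          have h1 := wc_mem O S ![K1, K2, A, 0] (by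
            have e : ev ![K1, K2, A, 0] wcU = vN K1 K2 A 0 0 := by
              simp [ev, wcU, mon, vN]
              abel
            rw [e]; exact h)
          simp [ev, wcB2, mon] at h1
          have h2 := smul_mem_cancel (mul_ne_zero (pow_ne_zero 2 hK2) (pow_ne_zero 5 hA1)) h1
          exact orb_back (r := 41) (k := 1) (by decide +kernel) (orb_of O S (by norm_num) h2)
      · left
        have h1 := wa_mem O S ![K1, K2, A, B] (by
          have e : ev ![K1, K2, A, B] waU = vN K1 K2 A 0 B := by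
            simp [ev, waU, mon, vN]
            abel
          rw [e]; exact h)
        simp [ev, waB2, mon] at h1
        exact orb_of O S (by norm_num) (smul_mem_cancel (mul_ne_zero hA1 (pow_ne_zero 4 hB)) h1)

end Cfsg.Agent.H407.L16
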